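import Groth.Agent.SchDom5.Loc
import Mathlib.AlgebraicGeometry.Morphisms.Flat
import Mathlib.AlgebraicGeometry.PullbackCarrier
import Mathlib.RingTheory.IsTensorProduct

/-!
# Schematically dominant families stay so after base change over a field
-/

set_option backward.isDefEq.respectTransparency false
set_option backward.isDefEq.respectTransparency.types false
set_option linter.style.haveILetI false

universe u

open CategoryTheory CategoryTheory.Limits AlgebraicGeometry TopologicalSpace Opposite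
open scoped TensorProduct

namespace Groth.Agent.SchDom5

variable {k : Type u} [Field k]

/-- Sections of a product of affines over a field are the tensor product of the sections. -/
theorem exists_equiv {X S' P : Scheme.{u}} {p : X ⟶ Spec (CommRingCat.of k)} {q : S' ⟶ Spec (CommRingCat.of k)}
    {a : P ⟶ X} {b : P ⟶ S'} (H : IsPullback a b p q) {U : X.Opens} (hU : IsAffineOpen U) {O : S'.Opens}
    (hO : IsAffineOpen O) {W : P.Opens} (hW : W = a ⁻¹ᵁ U ⊓ b ⁻¹ᵁ O) :
    letI := (p.appLE ⊤ U le_top).hom.toAlgebra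
    letI := (q.appLE ⊤ O le_top).hom.toAlgebra
    IsAffineOpen W ∧ ∃ e : Γ(X, U) ⊗[Γ(Spec (CommRingCat.of k), ⊤)] Γ(S', O) ≃+* Γ(P, W),
      ∀ x y, e (x ⊗ₜ y) = a.appLE U W (hW.le.trans inf_le_left) x * b.appLE O W (hW.le.trans inf_le_right) y := by
  letI := (p.appLE ⊤ U le_top).hom.toAlgebra
  letI := (q.appLE ⊤ O le_top).hom.toAlgebra
  have hV := isAffineOpen_top (Spec (CommRingCat.of k))
  have hpo := (isIso_pushoutSection_iff H (le_top : O ≤ q ⁻¹ᵁ ⊤) (le_top : U ≤ p ⁻¹ᵁ ⊤) hW).mp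
    (isIso_pushoutSection_of_isAffineOpen H le_top le_top hW hV hO hU)
  refine ⟨?_, ?_⟩
  · haveI : IsAffine _ := hV
    haveI : IsAffine _ := hO
    haveI : IsAffine _ := hU
    have hO' : O ≤ q ⁻¹ᵁ (⊤ : (Spec (CommRingCat.of k)).Opens) := le_top
    have hU' : U ≤ p ⁻¹ᵁ (⊤ : (Spec (CommRingCat.of k)).Opens) := le_top
    exact .of_isIso (Scheme.Hom.isPullback_resLE H hO' hU' hW).isoPullback.hom
  letI : Algebra Γ(X, U) Γ(P, W) := (a.appLE U W (hW.le.trans inf_le_left)).hom.toAlgebra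
  letI : Algebra Γ(S', O) Γ(P, W) := (b.appLE O W (hW.le.trans inf_le_right)).hom.toAlgebra
  letI : Algebra Γ(Spec (CommRingCat.of k), ⊤) Γ(P, W) :=
    (p.appLE ⊤ U le_top ≫ a.appLE U W (hW.le.trans inf_le_left)).hom.toAlgebra
  haveI : IsScalarTower Γ(Spec (CommRingCat.of k), ⊤) Γ(X, U) Γ(P, W) := .of_algebraMap_eq fun _ => rfl
  haveI : IsScalarTower Γ(Spec (CommRingCat.of k), ⊤) Γ(S', O) Γ(P, W) :=
    .of_algebraMap_eq fun r => congr($(hpo.w).hom r)
  haveI : Algebra.IsPushout Γ(Spec (CommRingCat.of k), ⊤) Γ(X, U) Γ(S', O) Γ(P, W) :=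
    CommRingCat.isPushout_iff_isPushout.mp hpo
  exact ⟨(Algebra.IsPushout.equiv Γ(Spec (CommRingCat.of k), ⊤) Γ(X, U) Γ(S', O) Γ(P, W)).toRingEquiv,
    fun x y => Algebra.IsPushout.equiv_tmul _ _ _ _ x y⟩

theorem schDominant_pullback {X S' : Scheme.{u}} (p : X ⟶ Spec (CommRingCat.of k)) (q : S' ⟶ Spec (CommRingCat.of k))
    {ι : Type u} (Z : ι → Scheme.{u}) (f : ∀ i, Z i ⟶ X)
    (h : ∀ (V : X.Opens) (t : Γ(X, V)), (∀ i, (f i).app V t = 0) → t = 0)
    (F : ∀ i, pullback (f i ≫ p) q ⟶ pullback p q)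
    (hF₁ : ∀ i, F i ≫ pullback.fst p q = pullback.fst (f i ≫ p) q ≫ f i)
    (hF₂ : ∀ i, F i ≫ pullback.snd p q = pullback.snd (f i ≫ p) q)
    (V' : (pullback p q).Opens) (t : Γ((pullback p q : Scheme.{u}), V')) (ht : ∀ i, (F i).app V' t = 0) : t = 0 := by
  let pr₁ := pullback.fst p q
  let pr₂ := pullback.snd p q
  letI : Field Γ(Spec (CommRingCat.of k), ⊤) := ((Scheme.ΓSpecIso (CommRingCat.of k)).commRingCatIsoToRingEquiv.toMulEquiv.isField
    (Field.toIsField k)).toField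
  refine TopCat.Presheaf.section_ext (pullback p q).sheaf V' t 0 fun z hz => ?_
  obtain ⟨U, hU, hzU, -⟩ := exists_isAffineOpen_mem_and_subset (x := pr₁ z) (U := ⊤) trivial
  obtain ⟨O, hO, hzO, -⟩ := exists_isAffineOpen_mem_and_subset (x := pr₂ z) (U := ⊤) trivial
  let W := pr₁ ⁻¹ᵁ U ⊓ pr₂ ⁻¹ᵁ O
  obtain ⟨hW, e, he⟩ := exists_equiv (IsPullback.of_hasPullback p q) hU hO (W := W) rfl
  letI algU := (p.appLE ⊤ U le_top).hom.toAlgebra
  letI algO := (q.appLE ⊤ O le_top).hom.toAlgebra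
  obtain ⟨g, hgV, hzg⟩ := hW.exists_basicOpen_le (V := V') ⟨z, hz⟩ ⟨hzU, hzO⟩
  haveI := hW.isLocalization_basicOpen g
  obtain ⟨⟨a, ⟨_, n, rfl⟩⟩, hna⟩ := IsLocalization.surj (M := Submonoid.powers g)
    ((pullback p q).presheaf.map (homOfLE hgV).op t)
  -- the family detects on `U`
  let J := (i : ι) × {W₀ : (Z i).Opens // IsAffineOpen W₀ ∧ W₀ ≤ f i ⁻¹ᵁ U}
  let C : J → Type u := fun j => Γ(Z j.1, j.2.1)
  letI : ∀ j : J, Algebra Γ(Spec (CommRingCat.of k), ⊤) (C j) := fun j =>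
    ((f j.1 ≫ p).appLE ⊤ j.2.1 le_top).hom.toAlgebra
  let φ : ∀ j : J, Γ(X, U) →ₐ[Γ(Spec (CommRingCat.of k), ⊤)] C j := fun j =>
    { ((f j.1).appLE U j.2.1 j.2.2.2).hom with
      commutes' := fun r => congr($(Scheme.Hom.appLE_comp_appLE (f j.1) p ⊤ U j.2.1 le_top j.2.2.2).hom r) }
  have hφ : Detects (fun j => (φ j).toRingHom) := by
    intro c x hcx
    haveI := hU.isLocalization_basicOpen c
    have h0 : algebraMap Γ(X, U) Γ(X, X.basicOpen c) x = 0 := by
      refine h _ _ fun i => ?_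
      refine TopCat.Presheaf.section_ext (Z i).sheaf _ _ 0 fun w hw => ?_
      obtain ⟨W₀, hW₀, hwW, hle⟩ := exists_isAffineOpen_mem_and_subset (x := w) (U := f i ⁻¹ᵁ X.basicOpen c) hw
      have hle' : W₀ ≤ f i ⁻¹ᵁ U := fun y hy => X.basicOpen_le c (hle hy)
      obtain ⟨m, hm⟩ := hcx ⟨i, W₀, hW₀, hle'⟩
      have hu : IsUnit ((f i).appLE U W₀ hle' c) := by
        have h1 := (RingedSpace.isUnit_res_basicOpen X.toRingedSpace c).map ((f i).appLE (X.basicOpen c) W₀ hle).hom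
        rw [show ((f i).appLE U W₀ hle' c) =
          (f i).appLE (X.basicOpen c) W₀ hle (X.presheaf.map (homOfLE (X.basicOpen_le c)).op c) from
          congr($((Scheme.Hom.map_appLE (f i) hle (homOfLE (X.basicOpen_le c)).op)).hom c).symm]
        exact h1
      have hx0 : (f i).appLE U W₀ hle' x = 0 := by
        have hm' : (f i).appLE U W₀ hle' (c ^ m * x) = 0 := hm
        rw [map_mul, map_pow, (hu.pow m).mul_right_eq_zero] at hm'
        exact hm'
      refine ((Z i).presheaf.germ_res_apply (homOfLE fun y hy => hle hy) w hwW _).symm.trans ?_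
      refine (congrArg _ ?_).trans ((map_zero _).trans (map_zero _).symm)
      refine Eq.trans ?_ hx0
      exact congr($((Scheme.Hom.map_appLE (f i) hle (homOfLE (X.basicOpen_le c)).op)).hom x)
    obtain ⟨⟨_, M, rfl⟩, hM⟩ := (IsLocalization.map_eq_zero_iff (Submonoid.powers c) Γ(X, X.basicOpen c) x).1 h0
    exact ⟨M, hM⟩
  obtain ⟨M, hM⟩ := detects_bc φ hφ Γ(S', O) (e.symm g) (e.symm a) fun j => by
    obtain ⟨i, W₀, hW₀, hle₀⟩ := j
    letI : Algebra Γ(Spec (CommRingCat.of k), ⊤) Γ(Z i, W₀) := ((f i ≫ p).appLE ⊤ W₀ le_top).hom.toAlgebra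
    let W₁ := pullback.fst (f i ≫ p) q ⁻¹ᵁ W₀ ⊓ pullback.snd (f i ≫ p) q ⁻¹ᵁ O
    obtain ⟨hW₁, e₁, he₁⟩ := exists_equiv (IsPullback.of_hasPullback (f i ≫ p) q) hW₀ hO (W := W₁) rfl
    have hle₁ : W₁ ≤ F i ⁻¹ᵁ W := fun y hy => by
      refine ⟨?_, ?_⟩
      · show pullback.fst p q (F i y) ∈ U
        rw [← Scheme.Hom.comp_apply, hF₁, Scheme.Hom.comp_apply]
        exact hle₀ hy.1
      · show pullback.snd p q (F i y) ∈ O
        rw [← Scheme.Hom.comp_apply, hF₂]
        exact hy.2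
    let ψ := (F i).appLE W W₁ hle₁
    have hcomm : ∀ z, e₁ (bc φ Γ(S', O) ⟨i, W₀, hW₀, hle₀⟩ z) = ψ (e z) := fun z => by
      induction z using TensorProduct.induction_on with
      | zero => simp
      | add u v hu hv => simp only [map_add, hu, hv]
      | tmul x y =>
        show e₁ (((f i).appLE U W₀ hle₀ x) ⊗ₜ y) = ψ (e (x ⊗ₜ y))
        rw [he₁, he, map_mul]
        refine congrArg₂ (· * ·) ?_ ?_ <;>
          simp only [ψ, ← ConcreteCategory.comp_apply, Scheme.Hom.appLE_comp_appLE, hF₁, hF₂, pr₁, pr₂]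
    haveI := hW₁.isLocalization_basicOpen (ψ g)
    have hD : (pullback (f i ≫ p) q).basicOpen (ψ g) ≤ F i ⁻¹ᵁ (pullback p q).basicOpen g := by
      rw [Scheme.basicOpen_appLE]
      exact inf_le_right
    have hres : ∀ y, algebraMap Γ((pullback (f i ≫ p) q : Scheme.{u}), W₁) Γ((pullback (f i ≫ p) q : Scheme.{u}), (pullback (f i ≫ p) q).basicOpen (ψ g)) (ψ y) =
        (F i).appLE _ _ hD (algebraMap Γ((pullback p q : Scheme.{u}), W) Γ((pullback p q : Scheme.{u}), (pullback p q).basicOpen g) y) := fun y => by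
      show (pullback (f i ≫ p) q).presheaf.map (homOfLE ((pullback (f i ≫ p) q).basicOpen_le _)).op (ψ y) =
        (F i).appLE _ _ hD ((pullback p q).presheaf.map (homOfLE ((pullback p q).basicOpen_le g)).op y)
      simp only [ψ, ← ConcreteCategory.comp_apply, Scheme.Hom.appLE_map, Scheme.Hom.map_appLE]
    have hzero : algebraMap Γ((pullback (f i ≫ p) q : Scheme.{u}), W₁) Γ((pullback (f i ≫ p) q : Scheme.{u}), (pullback (f i ≫ p) q).basicOpen (ψ g)) (ψ a) = 0 := by
      rw [hres, ← hna, map_mul]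
      have : (F i).appLE _ _ hD ((pullback p q).presheaf.map (homOfLE hgV).op t) = 0 := by
        rw [← ConcreteCategory.comp_apply, Scheme.Hom.map_appLE, Scheme.Hom.appLE, ConcreteCategory.comp_apply, ht i]
        exact map_zero _
      rw [this, zero_mul]
    obtain ⟨⟨_, m, rfl⟩, hm⟩ := (IsLocalization.map_eq_zero_iff (Submonoid.powers (ψ g)) _ (ψ a)).1 hzero
    refine ⟨m, e₁.injective ?_⟩
    rw [map_zero, hcomm, map_mul, map_pow, RingEquiv.apply_symm_apply, RingEquiv.apply_symm_apply, map_mul, map_pow]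
    exact hm
  have ha : algebraMap Γ((pullback p q : Scheme.{u}), W) Γ((pullback p q : Scheme.{u}), (pullback p q).basicOpen g) a = 0 := by
    refine (IsLocalization.map_eq_zero_iff (Submonoid.powers g) _ a).2 ⟨⟨g ^ M, M, rfl⟩, ?_⟩
    have := congrArg e hM
    rwa [map_mul, map_pow, RingEquiv.apply_symm_apply, RingEquiv.apply_symm_apply, map_zero] at this
  rw [ha] at hna
  have h0 := ((IsLocalization.map_units _ (⟨g ^ n, n, rfl⟩ : Submonoid.powers g)).mul_left_eq_zero).1 hna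
  refine ((pullback p q).presheaf.germ_res_apply (homOfLE hgV) z hzg t).symm.trans ?_
  exact (congrArg _ h0).trans ((map_zero _).trans (map_zero _).symm)

end Groth.Agent.SchDom5
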