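import Groth.Agent.CAlgMisc.TorsionFree
import Mathlib.RingTheory.NoetherNormalization
import Mathlib.RingTheory.TensorProduct.MvPolynomial
import Mathlib.RingTheory.Flat.Basic
import Mathlib.LinearAlgebra.TensorProduct.Pi
import Mathlib.RingTheory.Polynomial.Basic
import Mathlib.RingTheory.Adjoin.FG
import Mathlib.RingTheory.Adjoin.Polynomial.Basic

/-!
# Families of ring maps detecting sections on principal opens

`Detects φ` says that a family `φ i : A →+* C i` is jointly injective after inverting any element of `A`.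
This is stable under base change along any algebra over a field.
-/

universe u v

open TensorProduct

namespace Groth.Agent.SchDom5

/-- The family is jointly injective on every principal open. -/
def Detects {A : Type*} [CommRing A] {ι : Type*} {C : ι → Type*} [∀ i, CommRing (C i)]
    (φ : ∀ i, A →+* C i) : Prop :=
  ∀ c x : A, (∀ i, ∃ m, φ i (c ^ m * x) = 0) → ∃ M, c ^ M * x = 0

/-- The annihilator of an element. -/
abbrev ann {R : Type*} [CommRing R] (x : R) : Ideal R := LinearMap.ker (LinearMap.toSpanSingleton R R x)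

theorem mem_ann {R : Type*} [CommRing R] {x c : R} : c ∈ ann x ↔ c * x = 0 := Iff.rfl

theorem mem_rad_ann {R : Type*} [CommRing R] {x c : R} : c ∈ (ann x).radical ↔ ∃ m, c ^ m * x = 0 := Iff.rfl

theorem Detects.of_injective {A A' : Type*} [CommRing A] [CommRing A'] {ι : Type*} {C C' : ι → Type*}
    [∀ i, CommRing (C i)] [∀ i, CommRing (C' i)] {φ : ∀ i, A →+* C i} {φ' : ∀ i, A' →+* C' i}
    (h : Detects φ) (u : A' →+* A) (hu : Function.Injective u) (ψ : ∀ i, C' i →+* C i)
    (hc : ∀ i y, φ i (u y) = ψ i (φ' i y)) : Detects φ' := by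
  intro c x hx
  obtain ⟨M, hM⟩ := h (u c) (u x) fun i => by
    obtain ⟨m, hm⟩ := hx i
    exact ⟨m, by rw [← map_pow, ← map_mul, hc, hm, map_zero]⟩
  exact ⟨M, hu (by rw [map_mul, map_pow, hM, map_zero])⟩

section Polynomial

open Polynomial

variable {R : Type*} [CommRing R]

theorem C_top_coeff_mul {q : R[X]} {n : ℕ} (hq : q.natDegree ≤ n) :
    ∀ (N : ℕ) (x : R[X]), (∀ i, N ≤ i → x.coeff i = 0) → q * x = 0 → C (q.coeff n) ^ N * x = 0 := by
  intro N
  induction N with
  | zero => intro x hx _; rw [show x = 0 from Polynomial.ext fun i => (hx i (Nat.zero_le i)).trans (coeff_zero i).symm, mul_zero]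
  | succ N ih =>
    intro x hx hqx
    rw [pow_succ, mul_assoc]
    refine ih _ (fun i hi => ?_) (by rw [mul_left_comm, hqx, mul_zero])
    rw [coeff_C_mul]
    rcases hi.lt_or_eq with h | h
    · rw [hx i h, mul_zero]
    · subst h
      have hdx : x.natDegree ≤ N := natDegree_le_iff_coeff_eq_zero.2 fun i hi => hx i hi
      rw [← coeff_mul_add_eq_of_natDegree_le hq hdx, hqx, coeff_zero]

theorem C_coeff_mem_rad_ann {x : R[X]} : ∀ (n : ℕ) {p : R[X]}, p.natDegree ≤ n → p ∈ (ann x).radical →
    ∀ i, C (p.coeff i) ∈ (ann x).radical := by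
  intro n
  induction n with
  | zero =>
    intro p hp hpx i
    rcases eq_or_ne i 0 with rfl | hi
    · rwa [← eq_C_of_natDegree_le_zero hp]
    · rw [coeff_eq_zero_of_natDegree_lt (lt_of_le_of_lt hp (Nat.pos_of_ne_zero hi)), map_zero]
      exact zero_mem _
  | succ n ih =>
    intro p hp hpx i
    obtain ⟨m, hm⟩ := mem_rad_ann.1 hpx
    have htop : C (p.coeff (n + 1)) ∈ (ann x).radical := by
      refine mem_rad_ann.2 ⟨m * (x.natDegree + 1), ?_⟩
      rw [pow_mul, ← map_pow, ← coeff_pow_of_natDegree_le hp]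
      exact C_top_coeff_mul (natDegree_pow_le_of_le m hp) _ x
        (fun i hi => coeff_eq_zero_of_natDegree_lt hi) hm
    let p' := p - C (p.coeff (n + 1)) * X ^ (n + 1)
    have hp' : p'.natDegree ≤ n := natDegree_le_iff_coeff_eq_zero.2 fun j hj => by
      rw [coeff_sub, coeff_C_mul_X_pow]
      split_ifs with h
      · rw [h, sub_self]
      · rw [sub_zero, coeff_eq_zero_of_natDegree_lt (by omega)]
    have h := ih hp' (sub_mem hpx (Ideal.mul_mem_right _ _ htop)) i
    rcases eq_or_ne i (n + 1) with rfl | hi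
    · exact htop
    · rwa [coeff_sub, coeff_C_mul_X_pow, if_neg hi, sub_zero] at h

theorem Detects.polynomial {A : Type*} [CommRing A] {ι : Type*} {S : ι → Type*} [∀ i, CommRing (S i)]
    {φ : ∀ i, A →+* S i} (h : Detects φ) : Detects (fun i => mapRingHom (φ i)) := by
  intro c x hx
  refine mem_rad_ann.1 ?_
  rw [c.as_sum_range_C_mul_X_pow]
  refine Ideal.sum_mem _ fun j _ => Ideal.mul_mem_right _ _ ?_
  choose M hM using fun l => h (c.coeff j) (x.coeff l) fun i => by
    obtain ⟨m, hm⟩ := hx i
    obtain ⟨k, hk⟩ := mem_rad_ann.1 (C_coeff_mem_rad_ann _ le_rfl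
      (mem_rad_ann.2 ⟨m, (by rwa [map_mul, map_pow] at hm)⟩ :
        mapRingHom (φ i) c ∈ (ann (mapRingHom (φ i) x)).radical) j)
    refine ⟨k, ?_⟩
    have h1 := congrArg (fun q => q.coeff l) hk
    rw [coe_mapRingHom, coeff_map] at h1
    simp only [← map_pow, coeff_C_mul, coeff_map, coeff_zero] at h1
    rw [map_mul]
    exact h1
  refine mem_rad_ann.2 ⟨x.support.sup M, Polynomial.ext fun l => ?_⟩
  rw [← map_pow, coeff_C_mul, coeff_zero]
  by_cases hl : l ∈ x.support
  · rw [← Nat.sub_add_cancel (Finset.le_sup (f := M) hl), pow_add, mul_assoc, hM, mul_zero]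
  · rw [notMem_support_iff.1 hl, mul_zero]

theorem Detects.mvPolynomial {A : Type v} [CommRing A] {ι : Type*} {S : ι → Type v} [∀ i, CommRing (S i)]
    {φ : ∀ i, A →+* S i} (h : Detects φ) :
    ∀ n, Detects (fun i => (MvPolynomial.map (φ i) : MvPolynomial (Fin n) A →+* MvPolynomial (Fin n) (S i))) := by
  intro n
  induction n with
  | zero =>
    refine h.of_injective (MvPolynomial.isEmptyRingEquiv A (Fin 0)).toRingHom (RingEquiv.injective _)
      (fun i => (MvPolynomial.isEmptyRingEquiv (S i) (Fin 0)).toRingHom) fun i y => ?_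
    obtain ⟨a, rfl⟩ := (MvPolynomial.isEmptyRingEquiv A (Fin 0)).symm.surjective y
    have hC : ∀ (R : Type v) [CommRing R] (r : R),
        MvPolynomial.isEmptyRingEquiv R (Fin 0) (MvPolynomial.C r) = r := fun R _ r => by
      rw [← MvPolynomial.isEmptyRingEquiv_symm_apply, RingEquiv.apply_symm_apply]
    show φ i (MvPolynomial.isEmptyRingEquiv A (Fin 0) ((MvPolynomial.isEmptyRingEquiv A (Fin 0)).symm a)) =
      MvPolynomial.isEmptyRingEquiv (S i) (Fin 0)
        (MvPolynomial.map (φ i) ((MvPolynomial.isEmptyRingEquiv A (Fin 0)).symm a))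
    rw [MvPolynomial.isEmptyRingEquiv_symm_apply, MvPolynomial.map_C, hC, hC]
  | succ n ih =>
    refine ih.polynomial.of_injective (MvPolynomial.finSuccEquiv A n).toRingHom (AlgEquiv.injective _)
      (fun i => (MvPolynomial.finSuccEquiv (S i) n).toRingHom) fun i y => ?_
    refine RingHom.congr_fun (f := (mapRingHom (MvPolynomial.map (φ i))).comp (MvPolynomial.finSuccEquiv A n).toRingHom)
      (g := ((MvPolynomial.finSuccEquiv (S i) n).toRingHom).comp (MvPolynomial.map (φ i)))
      (MvPolynomial.ringHom_ext (fun a => ?_) (fun j => ?_)) y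
    · simp [MvPolynomial.finSuccEquiv_apply]
    · refine Fin.cases ?_ (fun j => ?_) j <;> simp [MvPolynomial.finSuccEquiv_apply]

end Polynomial

theorem integral_step {Λ B : Type*} [CommRing Λ] [CommRing B] (u : Λ →+* B) {ι : Type*} {S : ι → Type*}
    [∀ i, CommRing (S i)] (ψ : ∀ i, B →+* S i)
    (H : ∀ c y, (∀ i, ∃ m, ψ i (u c ^ m * y) = 0) → ∃ M, u c ^ M * y = 0)
    {g : B} (hg : u.IsIntegralElem g) {x : B} (hx : ∀ i, ∃ m, ψ i (g ^ m * x) = 0) : ∃ M, g ^ M * x = 0 := by
  obtain ⟨p, hp, hpg⟩ := hg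
  have key : ∀ j, j ≤ p.natDegree + 1 → ∃ N, ∀ i < j, u (p.coeff i) ∈ (ann (g ^ N * x)).radical := by
    intro j
    induction j with
    | zero => exact fun _ => ⟨0, fun i hi => absurd hi (Nat.not_lt_zero i)⟩
    | succ j ih =>
      intro hj
      obtain ⟨N, hN⟩ := ih (by omega)
      set b := g ^ N * x
      obtain ⟨t, ht⟩ : ∃ t, p.natDegree + 1 = j + (t + 1) := ⟨p.natDegree - j, by omega⟩
      let q := ∑ l ∈ Finset.range (t + 1), u (p.coeff (j + l)) * g ^ l
      have hgq : g ^ j * q ∈ (ann b).radical := by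
        have hsum := hpg
        rw [Polynomial.eval₂_eq_sum_range, ht, Finset.sum_range_add] at hsum
        have : g ^ j * q = ∑ l ∈ Finset.range (t + 1), u (p.coeff (j + l)) * g ^ (j + l) := by
          rw [Finset.mul_sum]
          exact Finset.sum_congr rfl fun l _ => by rw [pow_add]; ring
        rw [this, eq_neg_of_add_eq_zero_right hsum]
        exact neg_mem (Ideal.sum_mem _ fun i hi => Ideal.mul_mem_right _ _ (hN i (Finset.mem_range.1 hi)))
      obtain ⟨K, hK⟩ := mem_rad_ann.1 hgq
      refine ⟨j * K + N, fun i hi => ?_⟩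
      have hb' : g ^ (j * K + N) * x = g ^ (j * K) * b := by rw [pow_add, mul_assoc]
      have hmono : ∀ c, c ∈ (ann b).radical → c ∈ (ann (g ^ (j * K + N) * x)).radical := fun c hc => by
        obtain ⟨m, hm⟩ := mem_rad_ann.1 hc
        exact mem_rad_ann.2 ⟨m, by rw [hb', mul_left_comm, hm, mul_zero]⟩
      rcases Nat.lt_succ_iff_lt_or_eq.1 hi with h | rfl
      · exact hmono _ (hN i h)
      refine mem_rad_ann.2 (H _ _ fun l => ?_)
      have hqb : q ∈ (ann (g ^ (i * K + N) * x)).radical := by
        refine mem_rad_ann.2 ⟨K, ?_⟩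
        rw [hb', ← mul_assoc, ← hK, mul_pow, ← pow_mul, mul_comm (q ^ K)]
      have hψ : ∀ {c}, c ∈ (ann (g ^ (i * K + N) * x)).radical →
          ψ l c ∈ (ann (ψ l (g ^ (i * K + N) * x))).radical := fun {c} hc => by
        obtain ⟨m, hm⟩ := mem_rad_ann.1 hc
        exact mem_rad_ann.2 ⟨m, by rw [← map_pow, ← map_mul, hm, map_zero]⟩
      have hgl : ψ l g ∈ (ann (ψ l (g ^ (i * K + N) * x))).radical := by
        obtain ⟨m, hm⟩ := hx l
        refine mem_rad_ann.2 ⟨m, ?_⟩
        rw [← map_pow, ← map_mul, mul_left_comm, map_mul, hm, mul_zero]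
      have hq : q = g * (∑ l ∈ Finset.range t, u (p.coeff (i + (l + 1))) * g ^ l) + u (p.coeff i) := by
        show ∑ l ∈ Finset.range (t + 1), u (p.coeff (i + l)) * g ^ l = _
        rw [Finset.sum_range_succ', pow_zero, mul_one, add_zero, Finset.mul_sum]
        exact congrArg (· + _) (Finset.sum_congr rfl fun l _ => by rw [pow_succ]; ring)
      have h1 : ψ l g * ψ l (∑ l ∈ Finset.range t, u (p.coeff (i + (l + 1))) * g ^ l) + ψ l (u (p.coeff i)) ∈
          (ann (ψ l (g ^ (i * K + N) * x))).radical := by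
        rw [← map_mul, ← map_add, ← hq]
        exact hψ hqb
      have h2 : ψ l (u (p.coeff i)) ∈ (ann (ψ l (g ^ (i * K + N) * x))).radical :=
        (Ideal.add_mem_iff_right _ (Ideal.mul_mem_right _ _ hgl)).1 h1
      obtain ⟨m, hm⟩ := mem_rad_ann.1 h2
      exact ⟨m, by rwa [map_mul, map_pow]⟩
  obtain ⟨N, hN⟩ := key (p.natDegree + 1) le_rfl
  refine ⟨N, ?_⟩
  obtain ⟨m, hm⟩ := mem_rad_ann.1 (hN p.natDegree (Nat.lt_succ_self _))
  rwa [hp.coeff_natDegree, map_one, one_pow, one_mul] at hm

section Field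

variable {k : Type u} [Field k] {A : Type u} [CommRing A] [Algebra k A] {ι : Type v} {C : ι → Type u}
  [∀ i, CommRing (C i)] [∀ i, Algebra k (C i)] (φ : ∀ i, A →ₐ[k] C i)

/-- The base change of the family along `k → R`. -/
noncomputable abbrev bc (R : Type u) [CommRing R] [Algebra k R] (i : ι) : A ⊗[k] R →+* C i ⊗[k] R :=
  (Algebra.TensorProduct.map (φ i) (AlgHom.id k R)).toRingHom

theorem bc_comp {R R' : Type u} [CommRing R] [Algebra k R] [CommRing R'] [Algebra k R'] (w : R' →ₐ[k] R)
    (i : ι) (z : A ⊗[k] R') : bc φ R i (Algebra.TensorProduct.map (AlgHom.id k A) w z) =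
      Algebra.TensorProduct.map (AlgHom.id k (C i)) w (bc φ R' i z) := by
  induction z using TensorProduct.induction_on with
  | zero => simp
  | tmul a r => simp
  | add y z hy hz => simp only [map_add, hy, hz]

variable (hφ : Detects (fun i => (φ i).toRingHom))

include hφ in
theorem detects_mvPolynomial (n : ℕ) : Detects (bc φ (MvPolynomial (Fin n) k)) := by
  refine (hφ.mvPolynomial n).of_injective (MvPolynomial.algebraTensorAlgEquiv k A).toRingHom
    (AlgEquiv.injective _) (fun i => (MvPolynomial.algebraTensorAlgEquiv k (C i)).toRingHom) fun i y => ?_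
  induction y using TensorProduct.induction_on with
  | zero => simp
  | tmul a r =>
    simp [MvPolynomial.algebraTensorAlgEquiv_tmul, MvPolynomial.smul_eq_C_mul, MvPolynomial.map_map]
  | add y z hy hz => simp only [map_add, hy, hz]

variable (D : Type u) [CommRing D] [Algebra k D]

include hφ in
theorem detects_domain [IsDomain D] [Algebra.FiniteType k D] : Detects (bc φ D) := by
  classical
  obtain ⟨n, w, hw, hwfin⟩ := exists_finite_inj_algHom_of_fg k D
  let P := MvPolynomial (Fin n) k
  letI : Algebra P D := w.toRingHom.toAlgebra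
  haveI : IsScalarTower k P D := .of_algebraMap_eq fun c => (w.commutes c).symm
  haveI : Module.Finite P D := hwfin
  haveI : FaithfulSMul P D := (faithfulSMul_iff_algebraMap_injective P D).2 hw
  haveI : Module.IsTorsionFree P D := inferInstance
  obtain ⟨r, j, hj⟩ := CAlgMisc.exists_injective_free (R := P) (M := D)
  let u : A ⊗[k] P →ₐ[k] A ⊗[k] D := Algebra.TensorProduct.map (AlgHom.id k A) w
  have H : ∀ c y, (∀ i, ∃ m, bc φ D i (u c ^ m * y) = 0) → ∃ M, u c ^ M * y = 0 := by
    intro c y hy
    let jl : Fin r → D →ₗ[k] P := fun l => ((LinearMap.proj l).comp j).restrictScalars k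
    have hsemi : ∀ (B : Type u) [CommRing B] [Algebra k B] (l : Fin r) (e : B ⊗[k] P) (z : B ⊗[k] D),
        (jl l).lTensor B (Algebra.TensorProduct.map (AlgHom.id k B) w e * z) = e * (jl l).lTensor B z := by
      intro B _ _ l e z
      induction e using TensorProduct.induction_on with
      | zero => simp
      | add a b ha hb => simp only [map_add, add_mul, ha, hb]
      | tmul b q =>
        induction z using TensorProduct.induction_on with
        | zero => simp
        | add a b ha hb => simp only [mul_add, map_add, ha, hb]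
        | tmul b' d =>
          simp only [Algebra.TensorProduct.map_tmul, AlgHom.id_apply, Algebra.TensorProduct.tmul_mul_tmul,
            LinearMap.lTensor_tmul]
          refine congrArg (fun t => (b * b') ⊗ₜ[k] t) ?_
          show j (w q * d) l = q * j d l
          rw [show w q * d = q • d from (Algebra.smul_def q d).symm, map_smul]
          rfl
    have hnat : ∀ i l z, bc φ P i ((jl l).lTensor A z) = (jl l).lTensor (C i) (bc φ D i z) := fun i l z => by
      induction z using TensorProduct.induction_on with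
      | zero => simp
      | tmul a d => simp
      | add a b ha hb => simp only [map_add, ha, hb]
    choose M hM using fun l => detects_mvPolynomial φ hφ n c ((jl l).lTensor A y) fun i => by
      obtain ⟨m, hm⟩ := hy i
      refine ⟨m, ?_⟩
      rw [← hsemi, map_pow, hnat, hm, map_zero]
    refine ⟨Finset.univ.sup M, ?_⟩
    apply Module.Flat.lTensor_preserves_injective_linearMap (M := A) (j.restrictScalars k) hj
    rw [map_zero]
    apply (TensorProduct.piRight k k A fun _ : Fin r => P).injective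
    rw [map_zero]
    funext l
    have hproj : ∀ z : A ⊗[k] D, TensorProduct.piRight k k A (fun _ : Fin r => P)
        ((j.restrictScalars k).lTensor A z) l = (jl l).lTensor A z := fun z => by
      induction z using TensorProduct.induction_on with
      | zero => simp
      | tmul a d => simp [jl]
      | add a b ha hb => simp only [map_add, Pi.add_apply, ha, hb]
    rw [hproj, show u c ^ Finset.univ.sup M = Algebra.TensorProduct.map (AlgHom.id k A) w (c ^ Finset.univ.sup M)
      from (map_pow u c _).symm, hsemi, ← Nat.sub_add_cancel (Finset.le_sup (f := M) (Finset.mem_univ l)), pow_add,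
      mul_assoc, hM, mul_zero]
    rfl
  intro g x hx
  refine integral_step u.toRingHom (bc φ D) H ?_ hx
  clear hx
  induction g using TensorProduct.induction_on with
  | zero => exact u.toRingHom.isIntegralElem_zero
  | add a b ha hb => exact ha.add _ hb
  | tmul a d =>
    rw [show a ⊗ₜ[k] d = u (a ⊗ₜ[k] 1) * ((1 : A) ⊗ₜ[k] d) by simp [u]]
    refine (u.toRingHom.isIntegralElem_map (x := a ⊗ₜ[k] (1 : P))).mul _ ?_
    obtain ⟨p, hp, hpd⟩ := (Algebra.IsIntegral.isIntegral (R := P) d : IsIntegral P d)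
    refine ⟨p.map (Algebra.TensorProduct.includeRight : P →ₐ[k] A ⊗[k] P).toRingHom, hp.map _, ?_⟩
    rw [Polynomial.eval₂_map,
      show u.toRingHom.comp (Algebra.TensorProduct.includeRight : P →ₐ[k] A ⊗[k] P).toRingHom =
        (Algebra.TensorProduct.includeRight : D →ₐ[k] A ⊗[k] D).toRingHom.comp (algebraMap P D) from
        RingHom.ext fun q => (by simp [u]; rfl)]
    rw [show (1 : A) ⊗ₜ[k] d = (Algebra.TensorProduct.includeRight : D →ₐ[k] A ⊗[k] D).toRingHom d from rfl,
      ← Polynomial.hom_eval₂, hpd, map_zero]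

include hφ in
theorem detects_quotient [IsNoetherianRing D] [Algebra.FiniteType k D] (J : Ideal D) : Detects (bc φ (D ⧸ J)) := by
  refine IsNoetherian.induction (R := D) (M := D) (P := fun J : Ideal D => Detects (bc φ (D ⧸ J))) (fun (J : Ideal D) ih => ?_) J
  by_cases hp : J.IsPrime
  · exact detects_domain φ hφ _
  rcases Ideal.not_isPrime_iff.1 hp with rfl | ⟨r, hr, s, hs, hrs⟩
  · intro c x _
    refine ⟨0, ?_⟩
    have h1 : (1 : A ⊗[k] (D ⧸ (⊤ : Ideal D))) = 0 := by
      rw [Algebra.TensorProduct.one_def, show (1 : D ⧸ (⊤ : Ideal D)) = 0 from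
        Ideal.Quotient.eq_zero_iff_mem.2 Submodule.mem_top, tmul_zero]
    rw [← one_mul (c ^ 0 * x), h1, zero_mul]
  let J₁ := J ⊔ Ideal.span {r}
  let J₂ : Ideal D := Submodule.comap (LinearMap.mulLeft D r) J
  have h1 : J < J₁ := lt_of_le_not_ge le_sup_left fun h =>
    hr (h (Ideal.mem_sup_right (Ideal.mem_span_singleton_self r)))
  have hle₂ : J ≤ J₂ := fun d hd => J.mul_mem_left r hd
  have h2 : J < J₂ := lt_of_le_not_ge hle₂ fun h => hs (h hrs)
  let π : D ⧸ J →ₐ[k] D ⧸ J₁ := Ideal.Quotient.factorₐ k h1.le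
  let π₂ : D ⧸ J →ₐ[k] D ⧸ J₂ := Ideal.Quotient.factorₐ k hle₂
  let μD : (D ⧸ J₂) →ₗ[D] D ⧸ J := Submodule.mapQ J₂ J (LinearMap.mulLeft D r) le_rfl
  let μ : (D ⧸ J₂) →ₗ[k] D ⧸ J := μD.restrictScalars k
  have hμ : Function.Injective μ := by
    refine (injective_iff_map_eq_zero μ).2 fun z hz => ?_
    obtain ⟨d, rfl⟩ := Ideal.Quotient.mk_surjective z
    exact Ideal.Quotient.eq_zero_iff_mem.2 (Ideal.Quotient.eq_zero_iff_mem.1 hz : r * d ∈ J)
  have hex : Function.Exact μ π.toLinearMap := by
    intro z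
    obtain ⟨d, rfl⟩ := Ideal.Quotient.mk_surjective z
    constructor
    · intro hd
      obtain ⟨e, he, f, hf, hef⟩ := Submodule.mem_sup.1 (Ideal.Quotient.eq_zero_iff_mem.1 hd : d ∈ J₁)
      obtain ⟨c, rfl⟩ := Ideal.mem_span_singleton'.1 hf
      refine ⟨Ideal.Quotient.mk J₂ c, Ideal.Quotient.eq.2 ?_⟩
      show r * c - d ∈ J
      rw [← hef, show r * c - (e + c * r) = -e by ring]
      exact neg_mem he
    · rintro ⟨z, hz⟩
      obtain ⟨c, rfl⟩ := Ideal.Quotient.mk_surjective z
      rw [← hz]
      exact Ideal.Quotient.eq_zero_iff_mem.2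
        (Ideal.mem_sup_right (Ideal.mem_span_singleton'.2 ⟨c, mul_comm c r⟩) : r * c ∈ J₁)
  have hμmul : ∀ (c : D ⧸ J) z, μ (π₂ c * z) = c * μ z := fun c z => by
    obtain ⟨c, rfl⟩ := Ideal.Quotient.mk_surjective c
    obtain ⟨z, rfl⟩ := Ideal.Quotient.mk_surjective z
    show Ideal.Quotient.mk J (r * (c * z)) = Ideal.Quotient.mk J (c * (r * z))
    rw [mul_left_comm]
  have hsemi : ∀ (B : Type u) [CommRing B] [Algebra k B] (e : B ⊗[k] (D ⧸ J)) z,
      μ.lTensor B (Algebra.TensorProduct.map (AlgHom.id k B) π₂ e * z) = e * μ.lTensor B z := by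
    intro B _ _ e z
    induction e using TensorProduct.induction_on with
    | zero => simp
    | add a b ha hb => simp only [map_add, add_mul, ha, hb]
    | tmul b q =>
      induction z using TensorProduct.induction_on with
      | zero => simp
      | add a b ha hb => simp only [mul_add, map_add, ha, hb]
      | tmul b' d =>
        simp only [Algebra.TensorProduct.map_tmul, AlgHom.id_apply, Algebra.TensorProduct.tmul_mul_tmul,
          LinearMap.lTensor_tmul, hμmul]
  intro g x hx
  obtain ⟨M, hM⟩ := ih J₁ h1 (Algebra.TensorProduct.map (AlgHom.id k A) π g)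
    (Algebra.TensorProduct.map (AlgHom.id k A) π x) fun i => by
      obtain ⟨m, hm⟩ := hx i
      exact ⟨m, by rw [← map_pow, ← map_mul, bc_comp, hm, map_zero]⟩
  rw [← map_pow, ← map_mul] at hM
  have hM' : π.toLinearMap.lTensor A (g ^ M * x) = 0 := hM
  obtain ⟨y, hy⟩ := (Module.Flat.lTensor_exact A hex (g ^ M * x)).1 hM'
  obtain ⟨M', hM''⟩ := ih J₂ h2 (Algebra.TensorProduct.map (AlgHom.id k A) π₂ g) y fun i => by
    obtain ⟨m, hm⟩ := hx i
    refine ⟨m, Module.Flat.lTensor_preserves_injective_linearMap (M := C i) μ hμ ?_⟩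
    have hnat : ∀ z, μ.lTensor (C i) (bc φ (D ⧸ J₂) i z) = bc φ (D ⧸ J) i (μ.lTensor A z) := fun z => by
      induction z using TensorProduct.induction_on with
      | zero => simp
      | tmul a d => simp
      | add a b ha hb => simp only [map_add, ha, hb]
    rw [map_zero, hnat, ← map_pow, hsemi, hy, mul_left_comm, map_mul, hm, mul_zero]
  refine ⟨M' + M, ?_⟩
  have h3 := congrArg (μ.lTensor A) hM''
  rw [← map_pow, hsemi, hy, map_zero, ← mul_assoc, ← pow_add] at h3
  exact h3

include hφ in
/-- Detection is stable under base change by any algebra over a field. -/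
theorem detects_bc : Detects (bc φ D) := by
  classical
  intro g x hx
  have hfg : ∀ z : A ⊗[k] D, ∃ s : Finset D, ∀ t : Finset D, s ⊆ t →
      z ∈ Set.range (Algebra.TensorProduct.map (AlgHom.id k A) (Algebra.adjoin k (t : Set D)).val) := fun z => by
    induction z using TensorProduct.induction_on with
    | zero => exact ⟨∅, fun t _ => ⟨0, map_zero _⟩⟩
    | tmul a d =>
      exact ⟨{d}, fun t ht => ⟨a ⊗ₜ ⟨d, Algebra.subset_adjoin (ht (Finset.mem_singleton_self d))⟩, by simp⟩⟩
    | add a b ha hb =>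
      obtain ⟨s, hs⟩ := ha
      obtain ⟨t, ht⟩ := hb
      refine ⟨s ∪ t, fun w hw => ?_⟩
      obtain ⟨a', rfl⟩ := hs w (Finset.union_subset_left hw)
      obtain ⟨b', rfl⟩ := ht w (Finset.union_subset_right hw)
      exact ⟨a' + b', map_add _ _ _⟩
  obtain ⟨sg, hsg⟩ := hfg g
  obtain ⟨sx, hsx⟩ := hfg x
  let D₀ := Algebra.adjoin k ((sg ∪ sx : Finset D) : Set D)
  obtain ⟨g', rfl⟩ := hsg (sg ∪ sx) Finset.subset_union_left
  obtain ⟨x', rfl⟩ := hsx (sg ∪ sx) Finset.subset_union_right
  haveI : Algebra.FiniteType k D₀ := (Subalgebra.fg_iff_finiteType _).1 (Subalgebra.fg_adjoin_finset _)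
  haveI : IsNoetherianRing D₀ := Algebra.FiniteType.isNoetherianRing k D₀
  let q := Algebra.TensorProduct.map (AlgHom.id k A) (Ideal.Quotient.mkₐ k (⊥ : Ideal D₀))
  obtain ⟨M, hM⟩ := detects_quotient φ hφ D₀ ⊥ (q g') (q x') fun i => by
    obtain ⟨m, hm⟩ := hx i
    refine ⟨m, ?_⟩
    rw [← map_pow, ← map_mul, bc_comp] at hm
    rw [← map_pow, ← map_mul, bc_comp]
    have hinj : Function.Injective (Algebra.TensorProduct.map (AlgHom.id k (C i)) D₀.val) :=
      Module.Flat.lTensor_preserves_injective_linearMap (M := C i) D₀.val.toLinearMap Subtype.val_injective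
    rw [hinj (hm.trans (map_zero _).symm), map_zero]
  refine ⟨M, ?_⟩
  have hq : Function.Injective q :=
    Module.Flat.lTensor_preserves_injective_linearMap (M := A) (Ideal.Quotient.mkₐ k (⊥ : Ideal D₀)).toLinearMap
      ((injective_iff_map_eq_zero (Ideal.Quotient.mkₐ k (⊥ : Ideal D₀))).2 fun z hz =>
        (Ideal.Quotient.eq_zero_iff_mem.1 hz : z ∈ (⊥ : Ideal D₀)))
  rw [← map_pow, ← map_mul, show g' ^ M * x' = 0 from hq (by rw [map_mul, map_pow, hM, map_zero]), map_zero]

end Field

end Groth.Agent.SchDom5
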